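import Cfsg.Agent.Lib.O73.PackSem
import Cfsg.Agent.Lib.Spinor.Tools
import Cfsg.Agent.Lib.Spinor.Products
import Cfsg.Agent.Lib.Fischer3Srg.ReflOmega

/-!
`Ω₇(3)` as a group of matrices: elements of order three and squares of isometries lie in it.
-/

set_option autoImplicit false

namespace Cfsg.Agent.O73

open Matrix Cfsg.Agent.FormsLib Cfsg.Agent.Spinor

local notation "F₃" => ZMod 3

/-- Twice the Gram matrix of the form. -/
def J : Mat := fromBlocks (diagonal fun _ => 2) 0 0 (fromBlocks 0 1 1 0)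

/-- A matrix preserving the polar form. -/
def IsO (M : Mat) : Prop := Mᵀ * J * M = J

theorem J_mul_J : J * J = 1 := by decide +kernel

theorem J_transpose : Jᵀ = J := by decide +kernel

theorem quad_eq (v : Idx → F₃) : Cfsg.quadFormOdd 3 F₃ v = 2 * (v ⬝ᵥ (J *ᵥ v)) := by
  simp [Cfsg.quadFormOdd, J, dotProduct, mulVec, Fintype.sum_sum_type, Fin.sum_univ_three,
    Matrix.one_apply]
  linear_combination -(v (.inl ()) ^ 2 + v (.inr (.inl 0)) * v (.inr (.inr 0)) +
    v (.inr (.inl 1)) * v (.inr (.inr 1)) + v (.inr (.inl 2)) * v (.inr (.inr 2))) *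
      (by decide : (3 : F₃) = 0)

theorem quad_congr (M : Mat) (v : Idx → F₃) :
    v ⬝ᵥ ((Mᵀ * J * M) *ᵥ v) = (M *ᵥ v) ⬝ᵥ (J *ᵥ (M *ᵥ v)) := by
  rw [← mulVec_mulVec, ← mulVec_mulVec, dotProduct_mulVec, vecMul_transpose]

theorem quad_mulVec {M : Mat} (h : IsO M) (v : Idx → F₃) :
    Cfsg.quadFormOdd 3 F₃ (M *ᵥ v) = Cfsg.quadFormOdd 3 F₃ v := by
  rw [quad_eq, quad_eq, ← quad_congr, show Mᵀ * J * M = J from h]

theorem isO_iff_sub {M : Mat} : IsO M ↔ J * Mᵀ * J * M = 1 := by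
  constructor
  · intro h
    rw [Matrix.mul_assoc, Matrix.mul_assoc, ← Matrix.mul_assoc Mᵀ, show Mᵀ * J * M = J from h, J_mul_J]
  · intro h
    have := congrArg (J * ·) h
    simp only [Matrix.mul_assoc, ← Matrix.mul_assoc J J, J_mul_J, Matrix.one_mul, Matrix.mul_one] at this
    rwa [IsO, Matrix.mul_assoc]

theorem IsO.right {M : Mat} (h : IsO M) : M * J * Mᵀ = J := by
  have := mul_eq_one_comm.1 (isO_iff_sub.1 h)
  have e := congrArg (· * J) this
  simp only [Matrix.mul_assoc, J_mul_J, Matrix.one_mul, Matrix.mul_one] at e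
  rwa [Matrix.mul_assoc]

theorem IsO.mul {M N : Mat} (hM : IsO M) (hN : IsO N) : IsO (M * N) := by
  have : (M * N)ᵀ * J * (M * N) = Nᵀ * (Mᵀ * J * M) * N := by
    simp only [transpose_mul, Matrix.mul_assoc]
  rw [IsO, this, show Mᵀ * J * M = J from hM, show Nᵀ * J * N = J from hN]

theorem IsO.one : IsO 1 := by simp [IsO]

/-- The polar matrix is determined by the form. -/
theorem isO_of_quad {M : Mat}
    (h : ∀ v, Cfsg.quadFormOdd 3 F₃ (M *ᵥ v) = Cfsg.quadFormOdd 3 F₃ v) : IsO M := by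
  have hsym : (Mᵀ * J * M)ᵀ = Mᵀ * J * M := by
    rw [transpose_mul, transpose_mul, transpose_transpose, J_transpose, Matrix.mul_assoc]
  have hq : ∀ v : Idx → F₃, v ⬝ᵥ ((Mᵀ * J * M) *ᵥ v) = v ⬝ᵥ (J *ᵥ v) := fun v => by
    have e := h v
    rw [quad_eq, quad_eq, ← quad_congr] at e
    exact mul_left_cancel₀ (show (2 : F₃) ≠ 0 by decide) e
  have hD : ∀ S : Mat, Sᵀ = S → (∀ v : Idx → F₃, v ⬝ᵥ (S *ᵥ v) = 0) → S = 0 := by
    intro S hS hv
    ext i j
    have h1 : ∀ k, S k k = 0 := fun k => by simpa using hv (Pi.single k 1)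
    have h2 := hv (Pi.single i 1 + Pi.single j 1)
    simp [mulVec_add, add_dotProduct, dotProduct_add] at h2
    have h3 : S j i = S i j := congrFun (congrFun hS i) j
    rw [h1, h1, h3] at h2
    show S i j = 0
    linear_combination 2 * h2 - (S i j) * (by decide : (3 : F₃) = 0)
  exact sub_eq_zero.1 (hD _ (by rw [transpose_sub, hsym, J_transpose])
    fun v => by rw [sub_mulVec, dotProduct_sub, hq, sub_self])

/-- The isometry group of the form. -/
abbrev Iso := Cfsg.isometryGroup F₃ (Cfsg.quadFormOdd 3 F₃)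

/-- An isometry from its matrix. -/
def mkIso (M : Mat) (h : IsO M) : Iso :=
  ⟨⟨M, J * Mᵀ * J, mul_eq_one_comm.1 (isO_iff_sub.1 h), isO_iff_sub.1 h⟩,
    fun u _ => quad_mulVec h u⟩

theorem isO_coe (g : Iso) : IsO (g.1 : Mat) := isO_of_quad fun v => g.2 v v

/-- Membership of a matrix in `Ω₇(3)`. -/
def InOm (M : Mat) : Prop := ∃ g : Iso, g ∈ Cfsg.Omega F₃ (Cfsg.quadFormOdd 3 F₃) ∧ (g.1 : Mat) = M

theorem InOm.isO {M : Mat} : InOm M → IsO M := by
  rintro ⟨g, -, rfl⟩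
  exact isO_coe g

theorem InOm.mul {M N : Mat} : InOm M → InOm N → InOm (M * N) := by
  rintro ⟨g, hg, rfl⟩ ⟨k, hk, rfl⟩
  exact ⟨g * k, mul_mem hg hk, rfl⟩

theorem InOm.one : InOm 1 := ⟨1, one_mem _, rfl⟩

theorem InOm.of_mul_right {M N : Mat} (hN : InOm N) (hMN : InOm (M * N)) (hM : IsO M) : InOm M := by
  obtain ⟨k, hk, rfl⟩ := hN
  obtain ⟨g, hg, hge⟩ := hMN
  refine ⟨mkIso M hM, ?_, rfl⟩
  have : mkIso M hM * k = g := Subtype.ext (Units.ext hge.symm)
  rw [show mkIso M hM = g * k⁻¹ by rw [← this, mul_inv_cancel_right]]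
  exact mul_mem hg (inv_mem hk)

theorem InOm.conj {M N : Mat} (hN : InOm N) (hM : IsO M) {M' : Mat} (hM' : M' * M = 1) :
    InOm (M * N * M') := by
  obtain ⟨k, hk, rfl⟩ := hN
  refine ⟨mkIso M hM * k * (mkIso M hM)⁻¹, ?_, ?_⟩
  · exact (Subgroup.Normal.conj_mem (inferInstanceAs (commutator Iso).Normal) k hk _)
  · show M * (k.1 : Mat) * (J * Mᵀ * J) = _
    rw [left_inv_eq_right_inv hM' (mul_eq_one_comm.1 (isO_iff_sub.1 hM))]

/-- The quadratic form. -/
noncomputable abbrev Qf : QuadraticForm F₃ (Idx → F₃) := qOdd 3 F₃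

theorem hQf : (QuadraticMap.polarBilin Qf).Nondegenerate := FormsLib.qOdd_nondeg (by decide)

theorem hgen : reflGroup Qf = ⊤ := reflGroup_eq_top_of_odd hQf (by decide)

theorem sq_mem_Omega (g : Iso) : g * g ∈ Cfsg.Omega F₃ (Cfsg.quadFormOdd 3 F₃) := by
  suffices ∀ f : (Idx → F₃) → F₃, ⇑Qf = f → ∀ g : Cfsg.isometryGroup F₃ f,
      g * g ∈ Cfsg.Omega F₃ f from this _ FormsLib.coe_qOdd g
  rintro f rfl g
  refine (mem_Omega_iff' Qf hQf (Or.inl (by simp)) _).2 ⟨?_, ?_⟩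
  · rw [map_mul, dick_mul hQf hgen, Int.units_mul_self]
  · rw [map_mul, spin_mul hQf hgen, Int.units_mul_self]

theorem InOm.sq {M : Mat} (h : IsO M) : InOm (M * M) := ⟨_, sq_mem_Omega (mkIso M h), rfl⟩

theorem InOm.of_cube {M : Mat} (h : IsO M) (h3 : M * M * M = 1) : InOm M := by
  have : M = (M * M) * (M * M) := by rw [← Matrix.mul_assoc, h3, Matrix.one_mul]
  rw [this]
  exact InOm.sq (h.mul h)

theorem InOm.det {M : Mat} (h : InOm M) : M.det = 1 := by
  obtain ⟨g, hg, rfl⟩ := h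
  let f : Iso →* F₃ˣ :=
    Matrix.GeneralLinearGroup.det.comp (Cfsg.isometryGroup F₃ (Cfsg.quadFormOdd 3 F₃)).subtype
  have h : g ∈ f.ker := Abelianization.commutator_subset_ker f hg
  rw [MonoidHom.mem_ker] at h
  rw [← Matrix.GeneralLinearGroup.val_det_apply]
  show ((f g : F₃ˣ) : F₃) = 1
  rw [h, Units.val_one]

/-- The reflection matrix `diag(-1, 1, 1)` on the Levi factor. -/
def kMat : Mat := fromBlocks 1 0 0 (fromBlocks (diagonal ![-1, 1, 1]) 0 0 (diagonal ![-1, 1, 1]))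

theorem isO_kMat : IsO kMat := by unfold IsO; decide +kernel

theorem kMat_sq : kMat * kMat = 1 := by decide +kernel

theorem kMat_notMem : ¬ InOm kMat := by
  rintro ⟨g, hg, he⟩
  suffices ∀ f : (Idx → F₃) → F₃, ⇑Qf = f → ∀ g : Cfsg.isometryGroup F₃ f,
      (g.1 : Mat) = kMat → g ∉ Cfsg.Omega F₃ f from this _ FormsLib.coe_qOdd g he hg
  rintro f rfl g he hg
  let v : Idx → F₃ := Pi.single (.inr (.inl 0)) 1 + Pi.single (.inr (.inr 0)) 1
  let w : Idx → F₃ := Pi.single (.inr (.inl 0)) 1 - Pi.single (.inr (.inr 0)) 1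
  have hQv : Qf v = 1 := by rw [FormsLib.coe_qOdd]; decide +kernel
  have hQw : Qf w = -1 := by rw [FormsLib.coe_qOdd]; decide +kernel
  have hv : Qf v ≠ 0 := by rw [hQv]; decide
  have hw : Qf w ≠ 0 := by rw [hQw]; decide
  have e : oEquiv Qf g = oRefl Qf v hv * oRefl Qf w hw := by
    refine Subtype.ext (LinearEquiv.ext fun x => ?_)
    rw [oEquiv_apply, he]
    show _ = refl Qf v hv (refl Qf w hw x)
    rw [refl_apply, refl_apply, hQv, hQw, FormsLib.qOdd_polar, FormsLib.qOdd_polar]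
    funext i
    simp only [v, w, kMat, Pi.sub_apply, Pi.smul_apply, Pi.add_apply, mulVec, dotProduct,
      Fintype.sum_sum_type, Fin.sum_univ_three]
    rcases i with i | i | i <;> first | (fin_cases i <;> simp <;> ring) | (simp <;> ring)
  have h1 := ((mem_Omega_iff' Qf hQf (Or.inl (by simp)) g).1 hg).2
  rw [e, spin_mul hQf hgen, spin_oRefl hQf hv, spin_oRefl hQf hw, hQv, hQw,
    if_pos IsSquare.one, if_neg (by decide), one_mul] at h1
  exact absurd h1 (by decide)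

theorem card_omega : Nat.card (Cfsg.Omega F₃ (Cfsg.quadFormOdd 3 F₃)) = 4585351680 := by
  obtain ⟨P⟩ := Fischer3Srg.pomega_odd
  rw [← Nat.card_congr P.toEquiv, Fischer3Srg.card_pomega_seven]

end Cfsg.Agent.O73
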