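import Cfsg.Agent.Lib.O73.Sylow
import Cfsg.Agent.Lib.O73.Chk0
import Cfsg.Agent.Lib.O73.Chk1
import Cfsg.Agent.Lib.O73.Chk2
import Cfsg.Agent.Lib.O73.Chk3
import Cfsg.Agent.Lib.O73.Chk4
import Cfsg.Agent.Lib.O73.Chk5
import Cfsg.Agent.Lib.O73.Chk6
import Cfsg.Agent.Lib.O73.Chk7
import Cfsg.Agent.Lib.O73.Chk8

/-!
The seven classes of subgroups of order three.
-/

set_option autoImplicit false
set_option maxRecDepth 10000

namespace Cfsg.Agent.O73

open Matrix

local notation "F₃" => ZMod 3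

/-- The conclusion of the check of one element. -/
def Checked (g : R7) : Prop := ∃ n, chkOne gens seeds g n = true

theorem chkLine_sound {A : R7} : ∀ {C : List R7} {ns : List ℕ},
    chkLine gens seeds A C ns = true → ∀ c ∈ C, Checked (mul7 A c)
  | [], _, _, c, hc => absurd hc List.not_mem_nil
  | _ :: _, [], h, _, _ => Bool.noConfusion h
  | c :: cs, n :: ns, h, d, hd => by
    simp only [chkLine, Bool.and_eq_true] at h
    rcases List.mem_cons.1 hd with rfl | hd
    · exact ⟨n, h.1⟩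
    · exact chkLine_sound h.2 d hd

theorem chkBlock_sound : ∀ {As C : List R7} {ns : List (List ℕ)},
    chkBlock gens seeds As C ns = true → ∀ A ∈ As, ∀ c ∈ C, Checked (mul7 A c)
  | [], _, _, _, A, hA, _, _ => absurd hA List.not_mem_nil
  | _ :: _, _, [], h, _, _, _, _ => Bool.noConfusion h
  | A :: As, C, n :: ns, h, B, hB, c, hc => by
    simp only [chkBlock, Bool.and_eq_true] at h
    rcases List.mem_cons.1 hB with rfl | hB
    · exact chkLine_sound h.1 c hc
    · exact chkBlock_sound h.2 B hB c hc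

theorem checked_all {A C : R7} (hA : A ∈ facA) (hC : C ∈ facC) : Checked (mul7 A C) := by
  obtain ⟨a, ha, rfl⟩ := List.getElem_of_mem hA
  have hn : a / 3 < 81 := by rw [len_facA] at ha; omega
  obtain ⟨codes, h⟩ : ∃ codes, chkBlock gens seeds ((facA.drop (3 * (a / 3))).take 3) facC codes = true := by
    rcases Nat.lt_or_ge (a / 3) 9 with h | h; · exact chk0 _ (Nat.zero_le _) h
    rcases Nat.lt_or_ge (a / 3) 18 with h' | h'; · exact chk1 _ h h'
    rcases Nat.lt_or_ge (a / 3) 27 with h | h; · exact chk2 _ h' h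
    rcases Nat.lt_or_ge (a / 3) 36 with h' | h'; · exact chk3 _ h h'
    rcases Nat.lt_or_ge (a / 3) 45 with h | h; · exact chk4 _ h' h
    rcases Nat.lt_or_ge (a / 3) 54 with h' | h'; · exact chk5 _ h h'
    rcases Nat.lt_or_ge (a / 3) 63 with h | h; · exact chk6 _ h' h
    rcases Nat.lt_or_ge (a / 3) 72 with h' | h'; · exact chk7 _ h h'
    exact chk8 _ h' (by omega)
  refine chkBlock_sound h _ (List.mem_iff_getElem.2 ⟨a % 3, ?_, ?_⟩) _ hC
  · simp only [List.length_take, List.length_drop]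
    omega
  · simp only [List.getElem_take, List.getElem_drop]
    congr 1
    omega

theorem word7_good : ∀ fuel n, GoodO (word7 gens fuel n)
  | 0, _ => ⟨ok_one7, goodU_one.2.1⟩
  | fuel + 1, n => by
    show GoodO (bif Nat.beq n 0 then one7 else _)
    cases Nat.beq n 0
    · obtain ⟨h1, h2⟩ := word7_good fuel (n / 64)
      obtain ⟨g1, g2⟩ : GoodO (gens.getD (n % 64 - 1) one7) := by
        by_cases hl : n % 64 - 1 < gens.length
        · rw [List.getD_eq_getElem _ _ hl]
          exact goodO_gen (List.getElem_mem hl)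
        · rw [List.getD_eq_default _ _ (not_lt.1 hl)]
          exact ⟨ok_one7, goodU_one.2.1⟩
      exact ⟨mul7_ok _ h1, by show InOm (dec (mul7 _ _)); rw [dec_mul7 _ h1]; exact g2.mul h2⟩
    · exact ⟨ok_one7, goodU_one.2.1⟩

theorem seeds_spec : ∀ k : Fin 7, ok7b (seeds.getD k.val one7) = true ∧
    (dec (seeds.getD k.val one7))ᵀ * J * dec (seeds.getD k.val one7) = J ∧
    dec (seeds.getD k.val one7) * dec (seeds.getD k.val one7) * dec (seeds.getD k.val one7) = 1 ∧
    dec (seeds.getD k.val one7) ≠ 1 ∧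
    ok7b (seeds.getD (7 + k.val) one7) = true ∧
    dec (seeds.getD (7 + k.val) one7) =
      dec (seeds.getD k.val one7) * dec (seeds.getD k.val one7) := by
  decide +kernel

/-- The representatives. -/
def rep (k : Fin 7) : Mat := dec (seeds.getD k.val one7)

theorem rep_spec (k : Fin 7) : InOm (rep k) ∧ rep k * rep k * rep k = 1 ∧ rep k ≠ 1 :=
  ⟨InOm.of_cube (seeds_spec k).2.1 (seeds_spec k).2.2.1, (seeds_spec k).2.2.1, (seeds_spec k).2.2.2.1⟩

theorem classify {A C : R7} (hA : A ∈ facA) (hC : C ∈ facC)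
    (h3 : dec (mul7 A C) * dec (mul7 A C) * dec (mul7 A C) = 1) (h1 : dec (mul7 A C) ≠ 1) :
    ∃ h, InOm h ∧ ∃ k, h * rep k = dec (mul7 A C) * h ∨
      h * (rep k * rep k) = dec (mul7 A C) * h := by
  obtain ⟨n, hn⟩ := checked_all hA hC
  have hok : OK7 (mul7 A C) := ((goodU_facA hA).mul (goodU_facC hC)).1
  revert hn h1 h3 hok
  generalize mul7 A C = g
  intro h3 h1 hn hok
  by_cases h0 : n = 0
  · subst h0
    change eq7 g one7 = true at hn
    rw [(eq7_iff _ _).1 hn, dec_one7] at h1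
    exact absurd rfl h1
  by_cases h15 : n = 15
  · subst h15
    change (!(eq7 (mask7 (mul7 g (mul7 g g))) one7)) = true at hn
    rw [mask7_eq_one (mul7_ok _ (mul7_ok _ hok)) (by
      rw [dec_mul7 _ (mul7_ok _ hok), dec_mul7 _ hok, ← Matrix.mul_assoc, h3]),
      (eq7_iff _ _).2 rfl] at hn
    exact absurd hn (by decide)
  have e0 : Nat.beq n 0 = false := Bool.eq_false_iff.2 fun e => h0 (Nat.eq_of_beq_eq_true e)
  have e15 : Nat.beq n 15 = false := Bool.eq_false_iff.2 fun e => h15 (Nat.eq_of_beq_eq_true e)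
  simp only [chkOne, e0, e15, cond_false] at hn
  obtain ⟨w1, w2⟩ := word7_good 12 (n / 16)
  have hlen : seeds.length = 14 := by decide +kernel
  by_cases hk : n % 16 - 1 < 14
  · have hs : ∃ k : Fin 7, OK7 (seeds.getD (n % 16 - 1) one7) ∧
        (dec (seeds.getD (n % 16 - 1) one7) = rep k ∨
          dec (seeds.getD (n % 16 - 1) one7) = rep k * rep k) := by
      rcases Nat.lt_or_ge (n % 16 - 1) 7 with h7 | h7
      · exact ⟨⟨_, h7⟩, ok7_of_ok7b (seeds_spec ⟨_, h7⟩).1, Or.inl rfl⟩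
      · refine ⟨⟨n % 16 - 1 - 7, by omega⟩, ?_⟩
        obtain ⟨-, -, -, -, s5, s6⟩ := seeds_spec ⟨n % 16 - 1 - 7, by omega⟩
        rw [show 7 + (n % 16 - 1 - 7) = n % 16 - 1 by omega] at s5 s6
        exact ⟨ok7_of_ok7b s5, Or.inr s6⟩
    obtain ⟨k, sok, hs⟩ := hs
    have e := congrArg dec ((eq7_iff _ _).1 hn)
    rw [dec_mul7 _ sok, dec_mul7 _ w1] at e
    refine ⟨_, w2, k, ?_⟩
    rcases hs with hs | hs <;> rw [hs] at e
    · exact Or.inl e
    · exact Or.inr e
  · rw [List.getD_eq_default _ _ (by omega)] at hn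
    have e := congrArg dec ((eq7_iff _ _).1 hn)
    rw [dec_mul7 _ ok_one7, dec_mul7 _ w1, dec_one7, Matrix.mul_one] at e
    obtain ⟨x, hx⟩ := exists_om w2
    rw [← hx] at e
    have := congrArg (· * mat x⁻¹) e
    simp only [Matrix.mul_assoc, ← mat_mul, mul_inv_cancel, mat_one, Matrix.mul_one] at this
    exact absurd this.symm h1

/-- The value of the form on a row vector. -/
def qv (v : Idx → F₃) : F₃ :=
  v (.inl ()) * v (.inl ()) + (v (.inr (.inl 0)) * v (.inr (.inr 0)) +
    v (.inr (.inl 1)) * v (.inr (.inr 1)) + v (.inr (.inl 2)) * v (.inr (.inr 2)))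

/-- The number of fixed row vectors of each norm. -/
def cnt (M : Mat) : ℕ × ℕ :=
  (Fintype.card {v : Idx → F₃ // v ᵥ* M = v ∧ qv v = 0},
    Fintype.card {v : Idx → F₃ // v ᵥ* M = v ∧ qv v = 1})

/-- The expected counts. -/
def cntRep : Fin 7 → ℕ × ℕ := ![(27, 0), (27, 0), (9, 0), (9, 18), (81, 108), (99, 72), (63, 90)]

theorem cnt0 : cnt (rep 0) = (27, 0) := by decide +kernel
theorem cnt1 : cnt (rep 1) = (27, 0) := by decide +kernel
theorem cnt2 : cnt (rep 2) = (9, 0) := by decide +kernel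
theorem cnt3 : cnt (rep 3) = (9, 18) := by decide +kernel
theorem cnt4 : cnt (rep 4) = (81, 108) := by decide +kernel
theorem cnt5 : cnt (rep 5) = (99, 72) := by decide +kernel
theorem cnt6 : cnt (rep 6) = (63, 90) := by decide +kernel

theorem cnt_rep (k : Fin 7) : cnt (rep k) = cntRep k := by
  fin_cases k
  exacts [cnt0, cnt1, cnt2, cnt3, cnt4, cnt5, cnt6]

theorem qv_eq (v : Idx → F₃) : qv v = Cfsg.quadFormOdd 3 F₃ v := by
  simp [qv, Cfsg.quadFormOdd, Fin.sum_univ_three, pow_two]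

theorem qv_vecMul {h : Mat} (hO : IsO h) (v : Idx → F₃) : qv (v ᵥ* h) = qv v := by
  rw [qv_eq, qv_eq, ← mulVec_transpose]
  exact quad_mulVec (by rw [IsO, transpose_transpose]; exact hO.right) v

theorem cnt_of_conj {h h' A B : Mat} (hO : IsO h) (hh : h' * h = 1) (e : h * A = B * h) :
    cnt A = cnt B := by
  have hh' : h * h' = 1 := mul_eq_one_comm.1 hh
  have key : ∀ v : Idx → F₃, (v ᵥ* h) ᵥ* A = v ᵥ* h ↔ v ᵥ* B = v := fun v => by
    rw [vecMul_vecMul, e, ← vecMul_vecMul]
    refine ⟨fun he => ?_, fun he => by rw [he]⟩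
    have := congrArg (· ᵥ* h') he
    simpa [vecMul_vecMul, Matrix.mul_assoc, hh'] using this
  let E : (Idx → F₃) ≃ (Idx → F₃) :=
    ⟨(· ᵥ* h), (· ᵥ* h'), fun v => by simp [vecMul_vecMul, hh'], fun v => by simp [vecMul_vecMul, hh]⟩
  have main : ∀ t : F₃, Fintype.card {v : Idx → F₃ // v ᵥ* A = v ∧ qv v = t} =
      Fintype.card {v : Idx → F₃ // v ᵥ* B = v ∧ qv v = t} := fun t =>
    (Fintype.card_congr (E.subtypeEquiv (p := fun v => v ᵥ* B = v ∧ qv v = t)
      (q := fun v => v ᵥ* A = v ∧ qv v = t) fun v => by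
        show v ᵥ* B = v ∧ qv v = t ↔ (v ᵥ* h) ᵥ* A = v ᵥ* h ∧ qv (v ᵥ* h) = t
        rw [key, qv_vecMul hO])).symm
  simp only [cnt, main]

theorem cnt_sq {A : Mat} (h3 : A * A * A = 1) : cnt (A * A) = cnt A := by
  have key : ∀ v : Idx → F₃, v ᵥ* (A * A) = v ↔ v ᵥ* A = v := fun v => by
    constructor <;> intro he
    · have : (v ᵥ* (A * A)) ᵥ* (A * A) = v := by rw [he, he]
      rwa [vecMul_vecMul, ← Matrix.mul_assoc, h3, Matrix.one_mul] at this
    · rw [← vecMul_vecMul, he, he]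
  have main : ∀ t : F₃, Fintype.card {v : Idx → F₃ // v ᵥ* (A * A) = v ∧ qv v = t} =
      Fintype.card {v : Idx → F₃ // v ᵥ* A = v ∧ qv v = t} := fun t =>
    Fintype.card_congr (Equiv.subtypeEquivRight fun v => and_congr (key v) Iff.rfl)
  simp only [cnt, main]

theorem rep_zero : rep 0 = AT 1 := by decide +kernel

theorem rep_one : kMat * rep 1 = AT 1 * kMat := by decide +kernel

theorem AT_two : AT 1 * AT 1 = AT 2 := by decide +kernel

theorem not_conj_twin {h : Mat} (hh : InOm h)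
    (e : h * rep 0 = rep 1 * h ∨ h * rep 0 = rep 1 * rep 1 * h) : False := by
  have hsq : kMat * (rep 1 * rep 1) = AT 2 * kMat := by
    rw [← AT_two, ← Matrix.mul_assoc, rep_one, Matrix.mul_assoc, rep_one, Matrix.mul_assoc]
  obtain ⟨ε, hε, e'⟩ : ∃ ε : F₃, ε ≠ 0 ∧ (kMat * h) * AT 1 = AT ε * (kMat * h) := by
    rcases e with e | e
    · exact ⟨1, one_ne_zero, by rw [← rep_zero, Matrix.mul_assoc, e, ← Matrix.mul_assoc, rep_one,
        rep_zero, Matrix.mul_assoc]⟩
    · refine ⟨2, by decide, ?_⟩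
      rw [← rep_zero, Matrix.mul_assoc, e, ← Matrix.mul_assoc, hsq, Matrix.mul_assoc]
  have hd : (kMat * h).det = 1 := by
    rw [det_mul, hh.det, mul_one]
    simp [kMat, det_fromBlocks_zero₂₁, det_diagonal, Fin.prod_univ_three]
  have := twin_normalizer_mem (isO_kMat.mul hh.isO) hd hε e'
  exact kMat_notMem (InOm.of_mul_right hh this isO_kMat)

theorem classes : ∃ Y : Fin 7 → Subgroup Om, (∀ i, Nat.card (Y i) = 3) ∧
    (∀ i j, (∃ g : Om, (Y i).map (MulAut.conj g).toMonoidHom = Y j) → i = j) ∧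
    ∀ X : Subgroup Om, Nat.card X = 3 →
      ∃ i, ∃ g : Om, X.map (MulAut.conj g).toMonoidHom = Y i := by
  haveI : Fact (Nat.Prime 3) := ⟨Nat.prime_three⟩
  haveI : Finite Om := Nat.finite_of_card_ne_zero (by rw [card_omega]; norm_num)
  choose r hr using fun k => exists_om (rep_spec k).1
  have hr3 : ∀ k, r k ^ 3 = 1 := fun k =>
    mat_inj (by rw [mat_pow, hr, pow_three, ← Matrix.mul_assoc, (rep_spec k).2.1, mat_one])
  have hr1 : ∀ k, r k ≠ 1 := fun k e => (rep_spec k).2.2 (by rw [← hr, e, mat_one])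
  have hord : ∀ k, orderOf (r k) = 3 := fun k => orderOf_eq_prime (hr3 k) (hr1 k)
  have hcz : ∀ k, Nat.card (Subgroup.zpowers (r k)) = 3 := fun k => by
    rw [Nat.card_zpowers, hord]
  refine ⟨fun k => Subgroup.zpowers (r k), hcz, ?_, ?_⟩
  · rintro i j ⟨g, hg⟩
    have hmem : g * r i * g⁻¹ ∈ Subgroup.zpowers (r j) := by
      have hg' : (Subgroup.zpowers (r i)).map (MulAut.conj g).toMonoidHom = Subgroup.zpowers (r j) := hg
      rw [← hg']
      exact ⟨r i, Subgroup.mem_zpowers _, rfl⟩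
    classical
    rw [← mem_powers_iff_mem_zpowers, mem_powers_iff_mem_range_orderOf, hord,
      Finset.mem_image] at hmem
    obtain ⟨n, hn, e⟩ := hmem
    have hne : g * r i * g⁻¹ ≠ 1 := fun h => hr1 i (by
      rwa [mul_inv_eq_one, mul_eq_left] at h)
    rw [Finset.mem_range] at hn
    have e2 : g * r i = r j ^ n * g := by rw [e, inv_mul_cancel_right]
    have hm : mat g * rep i = rep j ^ n * mat g := by
      rw [← hr, ← hr, ← mat_pow, ← mat_mul, ← mat_mul, e2]
    have hn' : n = 1 ∨ n = 2 := by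
      interval_cases n
      · rw [pow_zero] at e
        exact absurd e.symm hne
      · exact Or.inl rfl
      · exact Or.inr rfl
    have hm' : mat g * rep i = rep j * mat g ∨ mat g * rep i = rep j * rep j * mat g := by
      rcases hn' with rfl | rfl
      · exact Or.inl (by rwa [pow_one] at hm)
      · exact Or.inr (by rwa [pow_two] at hm)
    have hh : mat g⁻¹ * mat g = 1 := by rw [← mat_mul, inv_mul_cancel, mat_one]
    have hc : cntRep i = cntRep j := by
      rw [← cnt_rep, ← cnt_rep]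
      rcases hm' with h | h
      · exact cnt_of_conj (inOm_mat g).isO hh h
      · rw [cnt_of_conj (inOm_mat g).isO hh h, cnt_sq (rep_spec j).2.1]
    have hij : i = j ∨ (i = 0 ∧ j = 1) ∨ (i = 1 ∧ j = 0) := by
      have key : ∀ i j : Fin 7, cntRep i = cntRep j → i = j ∨ (i = 0 ∧ j = 1) ∨ (i = 1 ∧ j = 0) := by
        decide +kernel
      exact key i j hc
    rcases hij with h | ⟨rfl, rfl⟩ | ⟨rfl, rfl⟩
    · exact h
    · exact (not_conj_twin (inOm_mat g) hm').elim
    · exfalso
      have hgg : g⁻¹ * r 0 = r 1 ^ n * g⁻¹ := by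
        rcases hn' with rfl | rfl
        · rw [pow_one] at e2 ⊢
          rw [inv_mul_eq_iff_eq_mul, ← mul_assoc, eq_mul_inv_iff_mul_eq, e2]
        · have e3 : g * r 1 ^ 2 = r 0 * g := by
            rw [pow_two, ← mul_assoc, e2, mul_assoc, e2, ← mul_assoc, ← pow_add]
            rw [show (r 0) ^ (2 + 2) = r 0 by rw [pow_succ, hr3, one_mul]]
          rw [inv_mul_eq_iff_eq_mul, ← mul_assoc, eq_mul_inv_iff_mul_eq, e3]
      have h2 : mat g⁻¹ * rep 0 = rep 1 ^ n * mat g⁻¹ := by
        rw [← hr, ← hr, ← mat_pow, ← mat_mul, ← mat_mul, hgg]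
      refine not_conj_twin (inOm_mat g⁻¹) ?_
      rcases hn' with rfl | rfl
      · exact Or.inl (by rwa [pow_one] at h2)
      · exact Or.inr (by rwa [pow_two] at h2)
  · intro X hX
    haveI : Finite X := Nat.finite_of_card_ne_zero (by rw [hX]; norm_num)
    obtain ⟨P, hP⟩ := (IsPGroup.of_card (n := 1) (by rw [hX, pow_one]) : IsPGroup 3 X).exists_le_sylow
    obtain ⟨Q, hQ⟩ := isPGroup_P0.exists_le_sylow
    have hQP : (Q : Subgroup Om) = P0 := by
      refine (Subgroup.eq_of_le_of_card_ge hQ ?_).symm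
      rw [Q.card_eq_multiplicity, card_omega, card_P0.1]
      refine Nat.le_of_dvd (by norm_num) ?_
      have h39 : Nat.factorization 4585351680 3 = 9 := by
        rw [show (4585351680 : ℕ) = 3 ^ 9 * 232960 by norm_num,
          Nat.factorization_mul (by norm_num) (by norm_num), Finsupp.add_apply,
          Nat.Prime.factorization_pow Nat.prime_three, Finsupp.single_eq_same,
          Nat.factorization_eq_zero_of_not_dvd (by norm_num)]
      rw [h39]
      norm_num
    obtain ⟨y, hy⟩ := MulAction.exists_smul_eq Om P Q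
    have hsub : X.map (MulAut.conj y).toMonoidHom ≤ P0 := by
      rw [← hQP, ← hy, Sylow.coe_subgroup_smul]
      rintro _ ⟨x, hx, rfl⟩
      exact ⟨x, hP hx, rfl⟩
    have hcard : Nat.card (X.map (MulAut.conj y).toMonoidHom) = 3 := by
      rw [Subgroup.card_map_of_injective (MulAut.conj y).injective, hX]
    obtain ⟨x, hx⟩ := (isCyclic_of_prime_card hcard).exists_generator
    have hzx : Subgroup.zpowers (x : Om) = X.map (MulAut.conj y).toMonoidHom := by
      refine le_antisymm (Subgroup.zpowers_le.2 x.2) fun z hz => ?_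
      obtain ⟨n, hn⟩ := hx ⟨z, hz⟩
      exact ⟨n, congrArg Subtype.val hn⟩
    have hox : orderOf (x : Om) = 3 := by rw [← Nat.card_zpowers, hzx, hcard]
    have h3 : (x : Om) ^ 3 = 1 := orderOf_dvd_iff_pow_eq_one.1 hox.dvd
    have h1 : (x : Om) ≠ 1 := fun e => by rw [e, orderOf_one] at hox; exact absurd hox (by norm_num)
    obtain ⟨A, hA, C, hC, hxe⟩ := card_P0.2 _ (hsub x.2)
    obtain ⟨h, hh, k, hk⟩ := classify hA hC
      (by rw [← hxe, ← mat_mul, ← mat_mul, ← pow_two, ← pow_succ, h3, mat_one])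
      (by rw [← hxe]; exact fun e => h1 (mat_inj (e.trans mat_one.symm)))
    obtain ⟨H, hH⟩ := exists_om hh
    refine ⟨k, H⁻¹ * y, ?_⟩
    have hmap : X.map (MulAut.conj (H⁻¹ * y)).toMonoidHom =
        (Subgroup.zpowers (x : Om)).map (MulAut.conj H⁻¹).toMonoidHom := by
      rw [hzx, Subgroup.map_map, map_mul]
      rfl
    rw [hmap, MonoidHom.map_zpowers]
    show Subgroup.zpowers (H⁻¹ * x * H⁻¹⁻¹) = Subgroup.zpowers (r k)
    have hcase : H⁻¹ * x * H⁻¹⁻¹ = r k ∨ H⁻¹ * x * H⁻¹⁻¹ = (r k)⁻¹ := by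
      rw [inv_inv]
      rcases hk with hk | hk
      · refine Or.inl ?_
        have : H * r k = x * H := mat_inj (by rw [mat_mul, mat_mul, hH, hr, hxe, hk])
        rw [mul_assoc, ← this, inv_mul_cancel_left]
      · refine Or.inr ?_
        have : H * (r k * r k) = x * H := mat_inj (by rw [mat_mul, mat_mul, mat_mul, hH, hr, hxe, hk])
        rw [mul_assoc, ← this, inv_mul_cancel_left]
        exact (inv_eq_of_mul_eq_one_left (by rw [← pow_two, ← pow_succ, hr3])).symm
    rcases hcase with e | e <;> rw [e]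
    exact Subgroup.zpowers_inv

end Cfsg.Agent.O73
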