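import Cfsg.Agent.Lib.O73.Basic

/-!
The stabiliser of the maximal singular subspace `⟨x₁, x₂, x₃⟩` and the twin class of elements of
order three.
-/

set_option autoImplicit false

namespace Cfsg.Agent.O73

open Matrix

local notation "F₃" => ZMod 3
local notation "M₃" => Matrix (Fin 3) (Fin 3) (ZMod 3)

/-- A nilpotent matrix from a grading. -/
theorem pow_eq_zero_of_grading (ρ : Idx → ℕ) (n : ℕ) (hρ : ∀ i, ρ i < n) (N : Mat)
    (h : ∀ i j, ρ j ≤ ρ i → N i j = 0) : N ^ n = 0 := by
  have key : ∀ k i j, ρ j < ρ i + k → (N ^ k) i j = 0 := by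
    intro k
    induction k with
    | zero => intro i j hij; rw [pow_zero, Matrix.one_apply_ne]; rintro rfl; omega
    | succ k ih =>
      intro i j hij
      rw [pow_succ, Matrix.mul_apply]
      refine Finset.sum_eq_zero fun l _ => ?_
      by_cases hl : ρ l < ρ i + k
      · rw [ih i l hl, zero_mul]
      · rw [h l j (by omega), mul_zero]
  ext i j
  exact key n i j (by have := hρ j; omega)

/-- A unipotent matrix from a grading has order dividing `3 ^ a`. -/
theorem pow_eq_one_of_grading (ρ : Idx → ℕ) (a : ℕ) (hρ : ∀ i, ρ i < 3 ^ a) (U : Mat)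
    (h : ∀ i j, ρ j ≤ ρ i → U i j = if i = j then 1 else 0) : U ^ 3 ^ a = 1 := by
  have h0 := pow_eq_zero_of_grading ρ _ hρ (U - 1) fun i j hij => by
    rw [Matrix.sub_apply, h i j hij, Matrix.one_apply, sub_self]
  rwa [sub_pow_char_pow_of_commute _ _ (Commute.one_right U), one_pow, sub_eq_zero] at h0

/-- The Levi element. -/
def levi (M N : M₃) : Mat := fromBlocks 1 0 0 (fromBlocks M 0 0 N)

theorem levi_mul (M N M' N' : M₃) : levi M N * levi M' N' = levi (M * M') (N * N') := by
  simp [levi, fromBlocks_multiply]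

theorem levi_one : levi 1 1 = 1 := by simp [levi, fromBlocks_one]

theorem isO_levi {M N : M₃} (h : Mᵀ * N = 1) : IsO (levi M N) := by
  have h' : Nᵀ * M = 1 := by simpa [transpose_mul] using congrArg transpose h
  simp [IsO, levi, J, fromBlocks_transpose, fromBlocks_multiply, h, h']

/-- The diagonal vector of `kMat`. -/
def kd : Fin 3 → F₃ := ![-1, 1, 1]

theorem kMat_eq : kMat = levi (diagonal kd) (diagonal kd) := rfl

theorem levi_diag_mem (d : Fin 3 → F₃) (hd : d 0 * d 1 * d 2 = 1) :
    InOm (levi (diagonal d) (diagonal d)) := by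
  have key : ∀ d : Fin 3 → F₃, d 0 * d 1 * d 2 = 1 →
      d = 1 ∨ d = ![-1, -1, 1] ∨ d = ![-1, 1, -1] ∨ d = ![1, -1, -1] := by decide +kernel
  have main : ∀ R : M₃, Rᵀ * R = 1 → R * R = diagonal d →
      InOm (levi (diagonal d) (diagonal d)) := fun R hR hR2 => by
    rw [← hR2, ← levi_mul]
    exact InOm.sq (isO_levi hR)
  rcases key d hd with rfl | rfl | rfl | rfl
  · exact main 1 (by simp) (by simp)
  · exact main !![0, -1, 0; 1, 0, 0; 0, 0, 1] (by decide +kernel) (by decide +kernel)
  · exact main !![0, 0, -1; 0, 1, 0; 1, 0, 0] (by decide +kernel) (by decide +kernel)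
  · exact main !![1, 0, 0; 0, 0, -1; 0, 1, 0] (by decide +kernel) (by decide +kernel)

/-- The Levi element of `M` lies in `Ω` up to the sign of its determinant. -/
def LeviOm (M : M₃) : Prop :=
  ∃ N, Mᵀ * N = 1 ∧ (M.det = 1 → InOm (levi M N)) ∧ (M.det = -1 → InOm (levi M N * kMat))

theorem units_cases : ∀ x : F₃, x ≠ 0 → x = 1 ∨ x = -1 := by decide

theorem kMat_conj {X : Mat} (h : InOm (X * kMat)) : InOm (kMat * X) := by
  have := h.conj isO_kMat kMat_sq
  rwa [← Matrix.mul_assoc, Matrix.mul_assoc (kMat * X), kMat_sq, Matrix.mul_one] at this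

theorem leviOm_mul (A B : M₃) (hA0 : A.det ≠ 0) (hB0 : B.det ≠ 0) (hA : LeviOm A) (hB : LeviOm B) :
    LeviOm (A * B) := by
  obtain ⟨NA, hNA, hA1, hA2⟩ := hA
  obtain ⟨NB, hNB, hB1, hB2⟩ := hB
  refine ⟨NA * NB, ?_, ?_, ?_⟩
  · rw [transpose_mul, Matrix.mul_assoc, ← Matrix.mul_assoc Aᵀ, hNA, Matrix.one_mul, hNB]
  all_goals
    intro hd
    rw [Matrix.det_mul] at hd
    rw [← levi_mul]
    rcases units_cases _ hA0 with a | a <;> rcases units_cases _ hB0 with b | b
  · exact (hA1 a).mul (hB1 b)
  · rw [a, b] at hd; exact absurd hd (by decide)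
  · rw [a, b] at hd; exact absurd hd (by decide)
  · have := (hA2 a).mul (kMat_conj (hB2 b))
    rwa [Matrix.mul_assoc, ← Matrix.mul_assoc kMat kMat, kMat_sq, Matrix.one_mul] at this
  · rw [a, b] at hd; exact absurd hd (by decide)
  · rw [Matrix.mul_assoc]
    exact (hA1 a).mul (hB2 b)
  · have := (hA2 a).mul ((hB1 b).conj isO_kMat kMat_sq)
    rwa [← Matrix.mul_assoc, ← Matrix.mul_assoc, Matrix.mul_assoc (levi A NA) kMat kMat, kMat_sq,
      Matrix.mul_one] at this
  · rw [a, b] at hd; exact absurd hd (by decide)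

theorem leviOm_all (M : M₃) (hM : M.det ≠ 0) : LeviOm M := by
  refine Matrix.diagonal_transvection_induction_of_det_ne_zero LeviOm M hM ?_ ?_ leviOm_mul
  · intro d hd
    rw [det_diagonal, Fin.prod_univ_three] at hd
    have hsq : ∀ i, d i * d i = 1 := fun i => by
      have : d i ≠ 0 := fun h0 => hd (by fin_cases i <;> simp_all)
      rcases units_cases _ this with e | e <;> simp [e]
    refine ⟨diagonal d, ?_, ?_, ?_⟩
    · rw [diagonal_transpose, diagonal_mul_diagonal, funext hsq, diagonal_one]
    · intro h1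
      rw [det_diagonal, Fin.prod_univ_three] at h1
      exact levi_diag_mem d h1
    · intro h1
      rw [det_diagonal, Fin.prod_univ_three] at h1
      rw [kMat_eq, levi_mul, diagonal_mul_diagonal]
      refine levi_diag_mem _ ?_
      simp [kd, h1]
  · rintro ⟨i, j, hij, c⟩
    rw [TransvectionStruct.toMatrix_mk]
    have hc : ∀ i j : Fin 3, i ≠ j → ∀ c : F₃, (transvection i j c)ᵀ * transvection j i (-c) = 1 ∧
        transvection i j c * transvection i j c * transvection i j c = 1 ∧
        transvection j i (-c) * transvection j i (-c) * transvection j i (-c) = 1 ∧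
        (transvection i j c).det = 1 := by
      decide +kernel
    obtain ⟨h1, h2, h3, h4⟩ := hc i j hij c
    refine ⟨_, h1, fun _ => InOm.of_cube (isO_levi h1) (by rw [levi_mul, levi_mul, h2, h3, levi_one]),
      fun h => ?_⟩
    rw [h4] at h
    exact absurd h (by decide)

/-- An element of the stabiliser of `⟨x₁, x₂, x₃⟩` with both determinants trivial lies in `Ω`. -/
theorem parabolic_mem {h : Mat} (hO : IsO h)
    (hW : ∀ j : Fin 3, h (.inl ()) (.inr (.inl j)) = 0 ∧
      ∀ i : Fin 3, h (.inr (.inr i)) (.inr (.inl j)) = 0) :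
    ∃ (M N : M₃) (c : F₃), (∀ i j, M i j = h (.inr (.inl i)) (.inr (.inl j))) ∧
      (∀ i j, N i j = h (.inr (.inr i)) (.inr (.inr j))) ∧ c = h (.inl ()) (.inl ()) ∧
      Mᵀ * N = 1 ∧ (∀ k, h (.inr (.inr k)) (.inl ()) = 0) ∧ h.det = c ∧
      (M.det = 1 → c = 1 → InOm h) := by
  let M : M₃ := Matrix.of fun i j => h (.inr (.inl i)) (.inr (.inl j))
  let N : M₃ := Matrix.of fun i j => h (.inr (.inr i)) (.inr (.inr j))
  let c : F₃ := h (.inl ()) (.inl ())
  have heq : ∀ a b, (hᵀ * J * h) a b = J a b := fun a b => by rw [show hᵀ * J * h = J from hO]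
  have hW1 : ∀ j, h (.inl ()) (.inr (.inl j)) = 0 := fun j => (hW j).1
  have hW2 : ∀ i j, h (.inr (.inr i)) (.inr (.inl j)) = 0 := fun i j => (hW j).2 i
  have hMN : Mᵀ * N = 1 := by
    ext i j
    have := heq (.inr (.inl i)) (.inr (.inr j))
    simp only [J, Matrix.mul_apply, Fintype.sum_sum_type, Fintype.sum_unique] at this
    simp [hW1, hW2, Matrix.one_apply, diagonal_apply] at this
    simpa [M, N, Matrix.mul_apply, Matrix.one_apply] using this
  have hNM : N * Mᵀ = 1 := mul_eq_one_comm.1 hMN
  let p : Fin 3 → F₃ := fun k => h (.inr (.inr k)) (.inl ())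
  have hMp : Mᵀ *ᵥ p = 0 := by
    funext i
    have := heq (.inr (.inl i)) (.inl ())
    simp only [J, Matrix.mul_apply, Fintype.sum_sum_type, Fintype.sum_unique] at this
    simp [hW1, hW2, Matrix.one_apply, diagonal_apply] at this
    simpa [M, p, Matrix.mulVec, dotProduct] using this
  have hp : ∀ k, p k = 0 := fun k => by
    have := congrArg (N *ᵥ ·) hMp
    simp only [mulVec_mulVec, hNM, one_mulVec, mulVec_zero] at this
    exact congrFun this k
  have hc : c * c = 1 := by
    have := heq (.inl ()) (.inl ())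
    simp only [J, Matrix.mul_apply, Fintype.sum_sum_type, Fintype.sum_unique] at this
    have hp' : ∀ k, h (.inr (.inr k)) (.inl ()) = 0 := hp
    simp [hp', Matrix.one_apply, diagonal_apply] at this
    show h (.inl ()) (.inl ()) * h (.inl ()) (.inl ()) = 1
    revert this
    generalize h (.inl ()) (.inl ()) = z
    revert z
    decide
  have hp' : ∀ k, h (.inr (.inr k)) (.inl ()) = 0 := hp
  let D : Mat := fromBlocks (diagonal fun _ => c) 0 0 1
  have hD : D * D = 1 := by
    simp [D, fromBlocks_multiply, hc, fromBlocks_one]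
  have hDO : IsO D := by
    have hc2 : c * (2 * c) = 2 := by linear_combination 2 * hc
    simp [IsO, D, J, fromBlocks_transpose, fromBlocks_multiply, hc2, mul_assoc]
  have hNtM : Nᵀ * M = 1 := by simpa [transpose_mul] using congrArg transpose hMN
  let u : Mat := levi Nᵀ Mᵀ * h * D
  have hu : h = levi M N * u * D := by
    simp only [u, ← Matrix.mul_assoc, levi_mul, mul_eq_one_comm.1 hNtM, hNM, levi_one, Matrix.one_mul]
    rw [Matrix.mul_assoc, hD, Matrix.mul_one]
  let ρ : Idx → ℕ
    | .inl _ => 1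
    | .inr (.inl _) => 0
    | .inr (.inr _) => 2
  have hu3 : u ^ 3 = 1 := by
    refine pow_eq_one_of_grading ρ 1 (fun i => by rcases i with i | i | i <;> simp [ρ]) u fun a b hab => ?_
    have e : ∀ i j, (Nᵀ * M) i j = (1 : M₃) i j := fun i j => by rw [hNtM]
    have e' : ∀ i j, (Mᵀ * N) i j = (1 : M₃) i j := fun i j => by rw [hMN]
    have e'' : ∀ i, (Mᵀ *ᵥ p) i = 0 := fun i => by rw [hMp]; rfl
    rcases a with a | a | a <;> rcases b with b | b | b <;>
      simp only [ρ] at hab <;> try omega
    all_goals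
      simp [u, D, levi, Matrix.mul_apply, Fintype.sum_sum_type, Fintype.sum_unique, hW1, hW2, hp',
        Matrix.one_apply, diagonal_apply, hc]
    · exact hc
    · simpa [M, N, Matrix.mul_apply, Matrix.one_apply] using e a b
    · simpa [M, N, Matrix.mul_apply, Matrix.one_apply] using e' a b
  have hud : u.det = 1 := by
    have := congrArg Matrix.det hu3
    rw [det_pow, det_one] at this
    revert this
    generalize u.det = z
    revert z
    decide
  have hdet : h.det = c := by
    rw [hu, det_mul, det_mul, hud]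
    simp [levi, D, det_fromBlocks_zero₂₁]
    rw [← det_transpose M, ← det_mul, hMN, det_one, one_mul]
  refine ⟨M, N, c, fun _ _ => rfl, fun _ _ => rfl, rfl, hMN, hp', hdet, fun hM hc1 => ?_⟩
  have hD1 : D = 1 := by
    simp [D, hc1, fromBlocks_one]
  obtain ⟨N', hN', hin, -⟩ := leviOm_all M (by rw [hM]; exact one_ne_zero)
  have hNN : N' = N := by
    calc N' = N * (Mᵀ * N') := by rw [← Matrix.mul_assoc, hNM, Matrix.one_mul]
      _ = N := by rw [hN', Matrix.mul_one]
  rw [hu, hD1, Matrix.mul_one]
  refine (hNN ▸ hin hM).mul (InOm.of_cube (((isO_levi ?_).mul hO).mul hDO) ?_)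
  · rw [transpose_transpose, mul_eq_one_comm.1 (hMN)]
  · rw [← hu3, pow_succ, pow_two]

/-- The twin representative and its inverse, by the parameter `e`. -/
def AT (e : F₃) : Mat := Matrix.of fun i j =>
  if (pos i, pos j) = (0, 4) then e else if (pos i, pos j) = (1, 0) then e else
  if (pos i, pos j) = (1, 4) then 2 else if (pos i, pos j) = (2, 6) then 2 * e else
  if (pos i, pos j) = (3, 5) then e else if i = j then 1 else 0

theorem AT_fix (e : F₃) (he : e ≠ 0) (v : Idx → F₃) (h : AT e *ᵥ v = v) :
    v (.inl ()) = 0 ∧ ∀ i, v (.inr (.inr i)) = 0 := by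
  have h0 := congrFun h (.inl ())
  have h1 := congrFun h (.inr (.inl 0))
  have h2 := congrFun h (.inr (.inl 1))
  have h3 := congrFun h (.inr (.inl 2))
  simp [AT, pos, Matrix.mulVec, dotProduct, Fintype.sum_sum_type, Fin.sum_univ_three, he] at h0 h1 h2 h3
  refine ⟨?_, fun i => ?_⟩
  · clear h2 h3 h
    revert h0 h1
    generalize v (.inl ()) = a
    generalize v (.inr (.inr 0)) = b
    generalize v (.inr (.inl 0)) = d
    revert he
    revert e a b d
    decide
  · have h2ne : (2 : F₃) ≠ 0 := by decide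
    fin_cases i
    · exact h0
    · exact h3
    · exact (h2.resolve_left h2ne)

/-- An isometry of determinant one relating the twin representative to itself or its inverse is
in `Ω`. -/
theorem twin_normalizer_mem {h : Mat} (hO : IsO h) (hd : h.det = 1) {e : F₃} (he : e ≠ 0)
    (heq : h * AT 1 = AT e * h) : InOm h := by
  have hW : ∀ j : Fin 3, h (.inl ()) (.inr (.inl j)) = 0 ∧
      ∀ i : Fin 3, h (.inr (.inr i)) (.inr (.inl j)) = 0 := fun j => by
    refine AT_fix e he (fun i => h i (.inr (.inl j))) (funext fun i => ?_)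
    have := congrFun (congrFun heq i) (.inr (.inl j))
    rw [show (AT e *ᵥ fun i => h i (.inr (.inl j))) i = (AT e * h) i (.inr (.inl j)) from rfl, ← this,
      Matrix.mul_apply, Finset.sum_eq_single (.inr (.inl j))]
    · fin_cases j <;> simp [AT, pos]
    · intro b _ hb
      rcases b with b | b | b <;> fin_cases j <;> first
        | (simp [AT, pos] at hb ⊢; done)
        | (simp [AT, pos] at hb ⊢; intro hh; exact absurd hh hb)
        | (fin_cases b <;> simp [AT, pos] at hb ⊢)
    · intro hh; exact absurd (Finset.mem_univ _) hh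
  obtain ⟨M, N, c, hM, hN, hc, hMN, hp, hdet, hin⟩ := parabolic_mem hO hW
  rw [hdet] at hd
  refine hin ?_ hd
  have g := fun a b => congrFun (congrFun heq a) b
  have a1 := g (.inr (.inl 0)) (.inl ())
  have a2 := g (.inr (.inl 1)) (.inl ())
  have a3 := g (.inr (.inl 2)) (.inl ())
  have b2 := g (.inl ()) (.inr (.inr 1))
  have b3 := g (.inl ()) (.inr (.inr 2))
  have d22 := g (.inr (.inl 1)) (.inr (.inr 1))
  have d32 := g (.inr (.inl 2)) (.inr (.inr 1))
  have d23 := g (.inr (.inl 1)) (.inr (.inr 2))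
  have d33 := g (.inr (.inl 2)) (.inr (.inr 2))
  have o22 := congrFun (congrFun hMN 1) 1
  simp [AT, pos, Matrix.mul_apply, Fintype.sum_sum_type, Fin.sum_univ_three, hp, ← hM, ← hN, ← hc,
    fun j => (hW j).1, hd] at a1 a2 a3 b2 b3 d22 d32 d23 d33 o22
  have b2' : N 0 1 = 0 := b2.resolve_left he
  have b3' : N 0 2 = 0 := b3.resolve_left he
  rw [Matrix.det_fin_three, show M 0 0 = e by linear_combination a1, a2, a3]
  simp only [b2', b3', mul_zero, zero_add, add_zero] at o22
  revert d22 d32 d23 d33 o22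
  generalize M 1 1 = m11
  generalize M 1 2 = m12
  generalize M 2 1 = m21
  generalize M 2 2 = m22
  generalize N 1 1 = n11
  generalize N 1 2 = n12
  generalize N 2 1 = n21
  generalize N 2 2 = n22
  intro d22 d32 d23 d33 o22
  have h3 : (3 : F₃) = 0 := by decide
  have e12 : m12 = 2 * e * n21 := by linear_combination d22
  have e22 : m22 = e * n11 := by linear_combination d32
  have e11 : m11 = e * n22 := by linear_combination 2 * d23 + (e * n22 - m11) * h3
  have e21 : m21 = 2 * e * n12 := by linear_combination 2 * d33 - m21 * h3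
  subst e12 e22 e11 e21
  have key : ∀ e a b c d : F₃, e ≠ 0 → e * d * a + 2 * e * b * c = 1 →
      e * (e * d) * (e * a) - e * (2 * e * c) * (2 * e * b) = 1 := by decide +kernel
  have := key e n11 n12 n21 n22 he o22
  linear_combination this

end Cfsg.Agent.O73
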