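-- core only, to keep the checking processes small

/-!
Packed arithmetic of `7 × 7` matrices over the field with three elements: a row is a natural number
whose bit `i` marks an entry `1` and whose bit `i + 8` marks an entry `2`.
-/

set_option autoImplicit false

namespace Cfsg.Agent.O73

/-- A packed matrix, row by row. -/
structure R7 where
  r0 : Nat
  r1 : Nat
  r2 : Nat
  r3 : Nat
  r4 : Nat
  r5 : Nat
  r6 : Nat

/-- The negative of a packed row. -/
def negR (a : Nat) : Nat := ((a >>> 8) &&& 255) ||| ((a &&& 255) <<< 8)

/-- The sum of two packed rows. -/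
def addR (a b : Nat) : Nat :=
  let za := a ||| negR a
  let zb := b ||| negR b
  (a ^^^ (a &&& zb)) ||| (b ^^^ (b &&& za)) ||| negR (a &&& b)

/-- Add a multiple of a row, the multiplier being entry `k` of `a`. -/
def addScaled (a k row acc : Nat) : Nat :=
  bif a.testBit k then addR acc row
  else bif a.testBit (k + 8) then addR acc (negR row) else acc

/-- A packed row times a packed matrix. -/
def rowMul (a : Nat) (B : R7) : Nat :=
  addScaled a 6 B.r6 (addScaled a 5 B.r5 (addScaled a 4 B.r4 (addScaled a 3 B.r3
    (addScaled a 2 B.r2 (addScaled a 1 B.r1 (addScaled a 0 B.r0 0))))))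

/-- The packed product. -/
def mul7 (A B : R7) : R7 :=
  ⟨rowMul A.r0 B, rowMul A.r1 B, rowMul A.r2 B, rowMul A.r3 B, rowMul A.r4 B, rowMul A.r5 B,
    rowMul A.r6 B⟩

/-- The packed identity. -/
def one7 : R7 := ⟨1, 2, 4, 8, 16, 32, 64⟩

/-- Keep the fourteen meaningful bits of every row. -/
def mask7 (A : R7) : R7 :=
  ⟨A.r0 &&& 32639, A.r1 &&& 32639, A.r2 &&& 32639, A.r3 &&& 32639, A.r4 &&& 32639,
    A.r5 &&& 32639, A.r6 &&& 32639⟩

/-- Equality test. -/
def eq7 (A B : R7) : Bool :=
  Nat.beq A.r0 B.r0 && Nat.beq A.r1 B.r1 && Nat.beq A.r2 B.r2 && Nat.beq A.r3 B.r3 &&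
    Nat.beq A.r4 B.r4 && Nat.beq A.r5 B.r5 && Nat.beq A.r6 B.r6

/-- The product of the generators coded base 64 in `n`. -/
def word7 (gens : List R7) : Nat → Nat → R7
  | 0, _ => one7
  | fuel + 1, n =>
    bif Nat.beq n 0 then one7
    else mul7 (gens.getD (n % 64 - 1) one7) (word7 gens fuel (n / 64))

/-- The check of one element against its code: the code `0` claims the identity, `15` an element
whose cube is not one, and any other code a conjugating word to one of the seeds. -/
def chkOne (gens seeds : List R7) (g : R7) (code : Nat) : Bool :=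
  bif Nat.beq code 0 then eq7 g one7
  else bif Nat.beq code 15 then !(eq7 (mask7 (mul7 g (mul7 g g))) one7)
  else
    let h := word7 gens 12 (code / 16)
    eq7 (mul7 h (seeds.getD (code % 16 - 1) one7)) (mul7 g h)

/-- The check of a line of products `A * c`. -/
def chkLine (gens seeds : List R7) (A : R7) : List R7 → List Nat → Bool
  | [], [] => true
  | c :: cs, n :: ns => chkOne gens seeds (mul7 A c) n && chkLine gens seeds A cs ns
  | _, _ => false

/-- The check of a block of lines. -/
def chkBlock (gens seeds : List R7) : List R7 → List R7 → List (List Nat) → Bool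
  | [], _, [] => true
  | A :: As, C, ns :: rest => chkLine gens seeds A C ns && chkBlock gens seeds As C rest
  | _, _, _ => false

end Cfsg.Agent.O73
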