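import Mathlib
import Cfsg.Agent.Lib.O73.Pack

/-!
The meaning of packed matrices.
-/

set_option autoImplicit false

namespace Cfsg.Agent.O73

/-- The index type of the seven-dimensional form. -/
abbrev Idx : Type := Unit ⊕ (Fin 3 ⊕ Fin 3)

/-- Matrices of the seven-dimensional space. -/
abbrev Mat : Type := Matrix Idx Idx (ZMod 3)

/-- Bit position of an index. -/
def pos : Idx → ℕ
  | .inl _ => 0
  | .inr (.inl i) => i + 1
  | .inr (.inr i) => i + 4

theorem pos_lt (i : Idx) : pos i < 7 := by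
  rcases i with i | i | i <;> simp only [pos] <;> omega

/-- The entry `k` of a packed row. -/
def digit (a k : ℕ) : ZMod 3 := if a.testBit k then 1 else if a.testBit (k + 8) then 2 else 0

/-- A packed row is valid if no entry is marked twice. -/
def RowOK (a : ℕ) : Prop := ∀ k < 8, ¬ (a.testBit k = true ∧ a.testBit (k + 8) = true)

theorem negR_lo (a : ℕ) {k : ℕ} (hk : k < 8) : (negR a).testBit k = a.testBit (k + 8) := by
  rw [negR, show (255 : ℕ) = 2 ^ 8 - 1 from rfl, Nat.testBit_or, Nat.testBit_and,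
    Nat.testBit_shiftRight, Nat.testBit_two_pow_sub_one, Nat.testBit_shiftLeft,
    decide_eq_true hk, decide_eq_false (not_le.2 hk), Bool.and_true, Bool.false_and, Bool.or_false,
    Nat.add_comm 8 k]

theorem negR_hi (a : ℕ) {k : ℕ} (hk : k < 8) : (negR a).testBit (k + 8) = a.testBit k := by
  rw [negR, show (255 : ℕ) = 2 ^ 8 - 1 from rfl, Nat.testBit_or, Nat.testBit_and,
    Nat.testBit_two_pow_sub_one, Nat.testBit_shiftLeft, Nat.testBit_and,
    Nat.testBit_two_pow_sub_one, decide_eq_false (show ¬ k + 8 < 8 by omega),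
    decide_eq_true (show k + 8 ≥ 8 by omega), Nat.add_sub_cancel, decide_eq_true hk,
    Bool.and_false, Bool.false_or, Bool.true_and, Bool.and_true]

theorem addR_spec (a b : ℕ) {k : ℕ} (hk : k < 8)
    (ha : ¬ (a.testBit k = true ∧ a.testBit (k + 8) = true))
    (hb : ¬ (b.testBit k = true ∧ b.testBit (k + 8) = true)) :
    digit (addR a b) k = digit a k + digit b k ∧
      ¬ ((addR a b).testBit k = true ∧ (addR a b).testBit (k + 8) = true) := by
  simp only [digit, addR, Nat.testBit_or, Nat.testBit_and, Nat.testBit_xor, negR_lo _ hk,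
    negR_hi _ hk]
  revert ha hb
  generalize a.testBit k = p
  generalize a.testBit (k + 8) = q
  generalize b.testBit k = r
  generalize b.testBit (k + 8) = s
  revert p q r s
  decide

theorem digit_negR (a : ℕ) {k : ℕ} (hk : k < 8)
    (ha : ¬ (a.testBit k = true ∧ a.testBit (k + 8) = true)) :
    digit (negR a) k = -digit a k := by
  simp only [digit, negR_lo _ hk, negR_hi _ hk]
  revert ha
  generalize a.testBit k = p
  generalize a.testBit (k + 8) = q
  revert p q
  decide

theorem rowOK_negR {a : ℕ} (ha : RowOK a) : RowOK (negR a) := fun k hk h => by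
  rw [negR_lo _ hk, negR_hi _ hk] at h
  exact ha k hk ⟨h.2, h.1⟩

theorem rowOK_addR {a b : ℕ} (ha : RowOK a) (hb : RowOK b) : RowOK (addR a b) := fun k hk =>
  (addR_spec a b hk (ha k hk) (hb k hk)).2

theorem rowOK_zero : RowOK 0 := fun k _ => by simp

theorem addScaled_ok (a k : ℕ) {row acc : ℕ} (hr : RowOK row) (hc : RowOK acc) :
    RowOK (addScaled a k row acc) := by
  unfold addScaled
  cases a.testBit k <;> cases a.testBit (k + 8) <;>
    first | exact hc | exact rowOK_addR hc hr | exact rowOK_addR hc (rowOK_negR hr)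

theorem addScaled_spec (a k : ℕ) {row acc : ℕ} (hr : RowOK row) (hc : RowOK acc) {j : ℕ} (hj : j < 8) :
    digit (addScaled a k row acc) j = digit acc j + digit a k * digit row j := by
  unfold addScaled
  rw [show digit a k = if a.testBit k then 1 else if a.testBit (k + 8) then 2 else 0 from rfl]
  cases a.testBit k <;> cases a.testBit (k + 8)
  · simp
  · show digit (addR acc (negR row)) j = _
    rw [(addR_spec _ _ hj (hc j hj) (rowOK_negR hr j hj)).1, digit_negR _ hj (hr j hj)]
    simp [show (2 : ZMod 3) = -1 by decide]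
  all_goals
    show digit (addR acc row) j = _
    rw [(addR_spec _ _ hj (hc j hj) (hr j hj)).1]
    simp

/-- A valid packed matrix. -/
def OK7 (A : R7) : Prop :=
  RowOK A.r0 ∧ RowOK A.r1 ∧ RowOK A.r2 ∧ RowOK A.r3 ∧ RowOK A.r4 ∧ RowOK A.r5 ∧ RowOK A.r6

/-- The row of a packed matrix. -/
def rowAt (A : R7) : Idx → ℕ
  | .inl _ => A.r0
  | .inr (.inl i) => [A.r1, A.r2, A.r3].getD i 0
  | .inr (.inr i) => [A.r4, A.r5, A.r6].getD i 0

/-- The matrix of a packed matrix. -/
def dec (A : R7) : Mat := Matrix.of fun i j => digit (rowAt A i) (pos j)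

theorem ok_rowAt {A : R7} (h : OK7 A) (i : Idx) : RowOK (rowAt A i) := by
  obtain ⟨h0, h1, h2, h3, h4, h5, h6⟩ := h
  rcases i with i | i | i
  · exact h0
  all_goals fin_cases i <;> assumption

theorem rowMul_ok (a : ℕ) {B : R7} (h : OK7 B) : RowOK (rowMul a B) := by
  obtain ⟨h0, h1, h2, h3, h4, h5, h6⟩ := h
  exact addScaled_ok _ _ h6 (addScaled_ok _ _ h5 (addScaled_ok _ _ h4 (addScaled_ok _ _ h3
    (addScaled_ok _ _ h2 (addScaled_ok _ _ h1 (addScaled_ok _ _ h0 rowOK_zero))))))

theorem mul7_ok (A : R7) {B : R7} (h : OK7 B) : OK7 (mul7 A B) :=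
  ⟨rowMul_ok _ h, rowMul_ok _ h, rowMul_ok _ h, rowMul_ok _ h, rowMul_ok _ h, rowMul_ok _ h,
    rowMul_ok _ h⟩

theorem rowMul_spec (a : ℕ) {B : R7} (h : OK7 B) {j : ℕ} (hj : j < 8) :
    digit (rowMul a B) j = digit a 0 * digit B.r0 j + digit a 1 * digit B.r1 j +
      digit a 2 * digit B.r2 j + digit a 3 * digit B.r3 j + digit a 4 * digit B.r4 j +
      digit a 5 * digit B.r5 j + digit a 6 * digit B.r6 j := by
  obtain ⟨h0, h1, h2, h3, h4, h5, h6⟩ := h
  unfold rowMul
  have k0 := addScaled_ok a 0 h0 rowOK_zero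
  have k1 := addScaled_ok a 1 h1 k0
  have k2 := addScaled_ok a 2 h2 k1
  have k3 := addScaled_ok a 3 h3 k2
  have k4 := addScaled_ok a 4 h4 k3
  have k5 := addScaled_ok a 5 h5 k4
  rw [addScaled_spec _ _ h6 k5 hj, addScaled_spec _ _ h5 k4 hj, addScaled_spec _ _ h4 k3 hj,
    addScaled_spec _ _ h3 k2 hj, addScaled_spec _ _ h2 k1 hj, addScaled_spec _ _ h1 k0 hj,
    addScaled_spec _ _ h0 rowOK_zero hj]
  simp [digit]

theorem rowAt_mul7 (A B : R7) (i : Idx) : rowAt (mul7 A B) i = rowMul (rowAt A i) B := by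
  rcases i with i | i | i
  · rfl
  all_goals fin_cases i <;> rfl

theorem dec_mul7 (A : R7) {B : R7} (h : OK7 B) : dec (mul7 A B) = dec A * dec B := by
  ext i j
  show digit (rowAt (mul7 A B) i) (pos j) = _
  rw [rowAt_mul7, rowMul_spec _ h (lt_trans (pos_lt j) (by omega)), Matrix.mul_apply]
  simp only [dec, Matrix.of_apply, Fintype.sum_sum_type, Fin.sum_univ_three, Fintype.sum_unique]
  simp [rowAt, pos]
  ring

theorem dec_one7 : dec one7 = 1 := by decide +kernel

theorem eq7_iff (A B : R7) : eq7 A B = true ↔ A = B := by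
  cases A; cases B
  simp [eq7, and_assoc]

theorem bits_of_dec_eq {A B : R7} (hA : OK7 A) (hB : OK7 B) (h : dec A = dec B) (i : Idx) :
    rowAt A i &&& 32639 = rowAt B i &&& 32639 := by
  have h7 : ∀ k, k < 7 → (rowAt A i).testBit k = (rowAt B i).testBit k ∧
      (rowAt A i).testBit (k + 8) = (rowAt B i).testBit (k + 8) := by
    intro k hk
    obtain ⟨j, rfl⟩ : ∃ j : Idx, pos j = k := by
      interval_cases k
      exacts [⟨.inl (), rfl⟩, ⟨.inr (.inl 0), rfl⟩, ⟨.inr (.inl 1), rfl⟩, ⟨.inr (.inl 2), rfl⟩,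
        ⟨.inr (.inr 0), rfl⟩, ⟨.inr (.inr 1), rfl⟩, ⟨.inr (.inr 2), rfl⟩]
    have e := congrFun (congrFun h i) j
    have a := ok_rowAt hA i (pos j) (lt_trans (pos_lt j) (by omega))
    have b := ok_rowAt hB i (pos j) (lt_trans (pos_lt j) (by omega))
    simp only [dec, Matrix.of_apply, digit] at e
    revert e a b
    generalize (rowAt A i).testBit (pos j) = p
    generalize (rowAt A i).testBit (pos j + 8) = q
    generalize (rowAt B i).testBit (pos j) = r
    generalize (rowAt B i).testBit (pos j + 8) = s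
    revert p q r s
    decide
  refine Nat.eq_of_testBit_eq fun n => ?_
  simp only [Nat.testBit_and]
  by_cases hn : n < 7
  · rw [(h7 n hn).1]
  by_cases hn2 : 8 ≤ n ∧ n < 15
  · have := (h7 (n - 8) (by omega)).2
    rw [Nat.sub_add_cancel hn2.1] at this
    rw [this]
  suffices (32639 : ℕ).testBit n = false by simp [this]
  rcases Nat.lt_or_ge n 15 with hn3 | hn3
  · obtain rfl : n = 7 := by omega
    decide
  · exact Nat.testBit_lt_two_pow (lt_of_lt_of_le (by norm_num) (Nat.pow_le_pow_right (by omega) hn3)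
      : (32639 : ℕ) < 2 ^ n)

theorem mask7_eq_one {A : R7} (hA : OK7 A) (h : dec A = 1) : mask7 A = one7 := by
  have hok : OK7 one7 := by
    refine ⟨?_, ?_, ?_, ?_, ?_, ?_, ?_⟩ <;>
    · intro k hk
      interval_cases k <;> decide
  have key := bits_of_dec_eq hA hok (h.trans dec_one7.symm)
  show R7.mk _ _ _ _ _ _ _ = R7.mk _ _ _ _ _ _ _
  congr 1
  exacts [key (.inl ()), key (.inr (.inl 0)), key (.inr (.inl 1)), key (.inr (.inl 2)),
    key (.inr (.inr 0)), key (.inr (.inr 1)), key (.inr (.inr 2))]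

/-- Validity as a decidable test. -/
def okRow (a : ℕ) : Bool := Nat.beq (a &&& negR a) 0

theorem rowOK_of_okRow {a : ℕ} (h : okRow a = true) : RowOK a := fun k hk hh => by
  have e : a &&& negR a = 0 := Nat.eq_of_beq_eq_true h
  have := congrArg (fun x => Nat.testBit x k) e
  simp [Nat.testBit_and, negR_lo _ hk, hh.1, hh.2] at this

/-- Validity of a packed matrix as a test. -/
def ok7b (A : R7) : Bool :=
  okRow A.r0 && okRow A.r1 && okRow A.r2 && okRow A.r3 && okRow A.r4 && okRow A.r5 && okRow A.r6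

theorem ok7_of_ok7b {A : R7} (h : ok7b A = true) : OK7 A := by
  simp only [ok7b, Bool.and_eq_true] at h
  obtain ⟨⟨⟨⟨⟨⟨h0, h1⟩, h2⟩, h3⟩, h4⟩, h5⟩, h6⟩ := h
  exact ⟨rowOK_of_okRow h0, rowOK_of_okRow h1, rowOK_of_okRow h2, rowOK_of_okRow h3,
    rowOK_of_okRow h4, rowOK_of_okRow h5, rowOK_of_okRow h6⟩

end Cfsg.Agent.O73
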