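import Cfsg.Agent.Lib.O73.Levi
import Cfsg.Agent.Lib.O73.Data

/-!
The Sylow `3`-subgroup of `Ω₇(3)` as the set of products of two tables.
-/

set_option autoImplicit false
set_option maxRecDepth 10000

namespace Cfsg.Agent.O73

open Matrix

local notation "F₃" => ZMod 3

/-- `Ω₇(3)`. -/
abbrev Om : Type := ↥(Cfsg.Omega F₃ (Cfsg.quadFormOdd 3 F₃))

/-- The matrix of an element. -/
def mat (g : Om) : Mat := (g.1.1 : Mat)

theorem mat_mul (g h : Om) : mat (g * h) = mat g * mat h := rfl

theorem mat_one : mat 1 = 1 := rfl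

theorem mat_pow (g : Om) (n : ℕ) : mat (g ^ n) = mat g ^ n := by
  induction n with
  | zero => simp [mat_one]
  | succ n ih => rw [pow_succ, pow_succ, mat_mul, ih]

theorem mat_inj {g h : Om} (e : mat g = mat h) : g = h := Subtype.ext (Subtype.ext (Units.ext e))

theorem exists_om {M : Mat} (h : InOm M) : ∃ g : Om, mat g = M := by
  obtain ⟨g, hg, e⟩ := h
  exact ⟨⟨g, hg⟩, e⟩

theorem inOm_mat (g : Om) : InOm (mat g) := ⟨g.1, g.2, rfl⟩

/-- The rank of an index in the flag. -/
def flag : Idx → ℕ
  | .inl _ => 3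
  | .inr (.inl i) => i
  | .inr (.inr i) => 6 - i

/-- Unitriangular with respect to the flag. -/
def Tri (M : Mat) : Prop := ∀ i j, flag j ≤ flag i → M i j = if i = j then 1 else 0

theorem flag_inj : ∀ i j : Idx, flag i = flag j → i = j := by decide

theorem Tri.mul {M N : Mat} (hM : Tri M) (hN : Tri N) : Tri (M * N) := by
  intro i j hij
  rw [Matrix.mul_apply, Finset.sum_eq_single i]
  · rw [hM i i le_rfl, if_pos rfl, one_mul, hN i j hij]
  · intro k _ hk
    by_cases h : flag k ≤ flag i
    · rw [hM i k h, if_neg (Ne.symm hk), zero_mul]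
    · rw [hN k j (by omega), if_neg (fun e => ?_), mul_zero]
      subst e
      exact h hij
  · intro h
    exact absurd (Finset.mem_univ i) h

theorem Tri.one : Tri 1 := fun i j _ => Matrix.one_apply

theorem Tri.pow {M : Mat} (hM : Tri M) : ∀ n : ℕ, Tri (M ^ n)
  | 0 => by rw [pow_zero]; exact Tri.one
  | n + 1 => by rw [pow_succ]; exact (Tri.pow hM n).mul hM

theorem Tri.pow_nine {M : Mat} (hM : Tri M) : M ^ 9 = 1 :=
  pow_eq_one_of_grading flag 2 (fun i => by rcases i with i | i | i <;> simp [flag] <;> omega) M hM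

/-- The unitriangular subgroup of `Ω₇(3)`. -/
def P0 : Subgroup Om where
  carrier := {g | Tri (mat g)}
  mul_mem' := fun {a b} ha hb => by show Tri (mat (a * b)); rw [mat_mul]; exact Tri.mul ha hb
  one_mem' := Tri.one
  inv_mem' := fun {a} ha => by
    have e : a ^ 9 = 1 := mat_inj (by rw [mat_pow, Tri.pow_nine ha, mat_one])
    show Tri (mat a⁻¹)
    rw [show a⁻¹ = a ^ 8 from inv_eq_of_mul_eq_one_right (by rw [← pow_succ', e]), mat_pow]
    exact Tri.pow ha 8

theorem isPGroup_P0 : IsPGroup 3 P0 := fun g =>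
  ⟨2, Subtype.ext (mat_inj (by
    show mat ((g : Om) ^ 3 ^ 2) = 1
    rw [mat_pow]
    exact Tri.pow_nine g.2))⟩

/-- The products of powers of a list of generators. -/
def prods : List R7 → List R7
  | [] => [one7]
  | g :: gs => prods gs ++ (prods gs).map (mul7 g) ++ (prods gs).map (mul7 (mul7 g g))

/-- Equality test of lists. -/
def eqL : List R7 → List R7 → Bool
  | [], [] => true
  | a :: as, b :: bs => eq7 a b && eqL as bs
  | _, _ => false

theorem eqL_eq : ∀ {as bs : List R7}, eqL as bs = true → as = bs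
  | [], [], _ => rfl
  | [], _ :: _, h => Bool.noConfusion h
  | _ :: _, [], h => Bool.noConfusion h
  | a :: as, b :: bs, h => by
    simp only [eqL, Bool.and_eq_true] at h
    rw [(eq7_iff a b).1 h.1, eqL_eq h.2]

/-- A valid packed element of `Ω`, unitriangular. -/
def GoodU (g : R7) : Prop := OK7 g ∧ InOm (dec g) ∧ Tri (dec g)

theorem ok_one7 : OK7 one7 := ok7_of_ok7b (by decide +kernel)

theorem goodU_one : GoodU one7 := ⟨ok_one7, by rw [dec_one7]; exact InOm.one, by rw [dec_one7]; exact Tri.one⟩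

theorem GoodU.mul {g h : R7} (hg : GoodU g) (hh : GoodU h) : GoodU (mul7 g h) := by
  refine ⟨mul7_ok g hh.1, ?_, ?_⟩ <;> rw [dec_mul7 g hh.1]
  · exact hg.2.1.mul hh.2.1
  · exact hg.2.2.mul hh.2.2

theorem goodU_prods : ∀ gs : List R7, (∀ g ∈ gs, GoodU g) → ∀ x ∈ prods gs, GoodU x
  | [], _, x, hx => by
    rw [prods, List.mem_singleton] at hx
    exact hx ▸ goodU_one
  | g :: gs, h, x, hx => by
    have hgs := goodU_prods gs fun y hy => h y (List.mem_cons_of_mem _ hy)
    have hg := h g List.mem_cons_self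
    simp only [prods, List.mem_append, List.mem_map] at hx
    rcases hx with (hx | ⟨y, hy, rfl⟩) | ⟨y, hy, rfl⟩
    exacts [hgs x hx, hg.mul (hgs y hy), (hg.mul hg).mul (hgs y hy)]

theorem gens_spec : ∀ g ∈ gens, ok7b g = true ∧ (dec g)ᵀ * J * dec g = J ∧
    dec g * dec g * dec g = 1 := by decide +kernel

/-- A valid packed element of `Ω`. -/
def GoodO (g : R7) : Prop := OK7 g ∧ InOm (dec g)

theorem goodO_gen {g : R7} (hg : g ∈ gens) : GoodO g :=
  ⟨ok7_of_ok7b (gens_spec g hg).1, InOm.of_cube (gens_spec g hg).2.1 (gens_spec g hg).2.2⟩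

/-- The generators of the first table. -/
def genA : List R7 := [0, 2, 6, 4, 8].map (gens.getD · one7)

/-- The generators of the second table. -/
def genC : List R7 := [10, 12, 14, 16].map (gens.getD · one7)

theorem genAC_mem : ∀ k ∈ ([0, 2, 6, 4, 8, 10, 12, 14, 16] : List ℕ), gens.getD k one7 ∈ gens := by
  intro k hk
  have hl : gens.length = 36 := by decide +kernel
  have : k < gens.length := by
    rw [hl]
    fin_cases hk <;> norm_num
  rw [List.getD_eq_getElem _ _ this]
  exact List.getElem_mem this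

theorem genAC_tri : ∀ k ∈ ([0, 2, 6, 4, 8, 10, 12, 14, 16] : List ℕ), ∀ p : Idx × Idx,
    flag p.2 ≤ flag p.1 → dec (gens.getD k one7) p.1 p.2 = if p.1 = p.2 then (1 : F₃) else 0 := by
  decide +kernel

theorem goodU_genA : ∀ g ∈ genA ++ genC, GoodU g := by
  intro g hg
  rw [genA, genC, ← List.map_append, List.mem_map] at hg
  obtain ⟨k, hk, rfl⟩ := hg
  exact ⟨(goodO_gen (genAC_mem k hk)).1, (goodO_gen (genAC_mem k hk)).2, fun i j => genAC_tri k hk (i, j)⟩

theorem facA_eq : eqL facA (prods genA) = true := by decide +kernel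

theorem facC_eq : eqL facC (prods genC) = true := by decide +kernel

theorem goodU_facA {A : R7} (h : A ∈ facA) : GoodU A :=
  goodU_prods genA (fun g hg => goodU_genA g (List.mem_append_left _ hg)) A (eqL_eq facA_eq ▸ h)

theorem goodU_facC {C : R7} (h : C ∈ facC) : GoodU C :=
  goodU_prods genC (fun g hg => goodU_genA g (List.mem_append_right _ hg)) C (eqL_eq facC_eq ▸ h)

/-- The last basis vector index. -/
abbrev iy : Idx := .inr (.inr 0)

/-- All indices. -/
def allIdx : List Idx :=
  [.inl (), .inr (.inl 0), .inr (.inl 1), .inr (.inl 2), .inr (.inr 0), .inr (.inr 1), .inr (.inr 2)]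

theorem keyA_nodup : (facA.map fun A => allIdx.map fun i => (dec A i iy).val).Nodup := by
  decide +kernel

theorem keyC_nodup : (facC.map fun C => allIdx.map fun i => rowAt C i &&& 32639).Nodup := by
  decide +kernel

theorem facC_col : ∀ C ∈ facC, ∀ k, dec C k iy = if k = iy then 1 else 0 := by decide +kernel

theorem len_facA : facA.length = 243 := by decide +kernel

theorem len_facC : facC.length = 81 := by decide +kernel

theorem inj_map {α β : Type*} {L : List α} {f : α → β} (h : (L.map f).Nodup) {a b : ℕ}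
    (ha : a < L.length) (hb : b < L.length) (e : f L[a] = f L[b]) : a = b := by
  have := (List.Nodup.getElem_inj_iff h (i := a) (hi := by simpa using ha) (j := b)
    (hj := by simpa using hb)).1 (by simpa using e)
  exact this

theorem card_P0 : Nat.card P0 = 19683 ∧ ∀ g ∈ P0, ∃ A ∈ facA, ∃ C ∈ facC, mat g = dec (mul7 A C) := by
  have hgood : ∀ a : Fin 243 × Fin 81, GoodU (mul7 (facA[a.1.1]'(by rw [len_facA]; exact a.1.2))
      (facC[a.2.1]'(by rw [len_facC]; exact a.2.2))) := fun a =>
    (goodU_facA (List.getElem_mem _)).mul (goodU_facC (List.getElem_mem _))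
  have hex := fun a => exists_om (hgood a).2.1
  choose f hf using hex
  let F : Fin 243 × Fin 81 → P0 := fun a => ⟨f a, by show Tri (mat (f a)); rw [hf]; exact (hgood a).2.2⟩
  have hinj : Function.Injective F := by
    rintro ⟨a, c⟩ ⟨a', c'⟩ e
    have e1 := congrArg (fun g : P0 => mat g.1) e
    simp only [F, hf] at e1
    have ok := fun (n : ℕ) (h : n < facC.length) => (goodU_facC (List.getElem_mem h)).1
    rw [dec_mul7 _ (ok _ _), dec_mul7 _ (ok _ _)] at e1
    have ha : a = a' := by
      refine Fin.ext (inj_map keyA_nodup (by rw [len_facA]; exact a.2) (by rw [len_facA]; exact a'.2) ?_)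
      refine List.map_congr_left fun i _ => congrArg ZMod.val ?_
      have := congrFun (congrFun e1 i) iy
      simpa [Matrix.mul_apply, facC_col _ (List.getElem_mem _)] using this
    subst ha
    have hc : dec (facC[c.1]'(by rw [len_facC]; exact c.2)) = dec (facC[c'.1]'(by rw [len_facC]; exact c'.2)) := by
      obtain ⟨g, hg⟩ := exists_om (goodU_facA (List.getElem_mem (by rw [len_facA]; exact a.2 : a.1 < facA.length))).2.1
      have h1 : mat g⁻¹ * mat g = 1 := by rw [← mat_mul, inv_mul_cancel, mat_one]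
      have := congrArg (mat g⁻¹ * ·) e1
      simp only [← hg, ← Matrix.mul_assoc, h1, Matrix.one_mul] at this
      exact this
    refine Prod.ext rfl (Fin.ext (inj_map keyC_nodup (by rw [len_facC]; exact c.2) (by rw [len_facC]; exact c'.2) ?_))
    exact List.map_congr_left fun i _ => bits_of_dec_eq (ok _ _) (ok _ _) hc i
  haveI : Fact (Nat.Prime 3) := ⟨Nat.prime_three⟩
  haveI : Finite Om := Nat.finite_of_card_ne_zero (by rw [card_omega]; norm_num)
  obtain ⟨k, hk⟩ := IsPGroup.iff_card.1 isPGroup_P0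
  have hdvd : 3 ^ k ∣ 4585351680 := hk ▸ card_omega ▸ Subgroup.card_subgroup_dvd_card P0
  have hle : 19683 ≤ Nat.card P0 := by
    have := Nat.card_le_card_of_injective F hinj
    simpa using this
  have hk9 : k ≤ 9 := by
    by_contra hc
    have := (Nat.pow_dvd_pow 3 (show 10 ≤ k by omega)).trans hdvd
    norm_num at this
  have hcard : Nat.card P0 = 19683 :=
    le_antisymm (hk ▸ le_trans (Nat.pow_le_pow_right (by norm_num) hk9) (by norm_num)) hle
  refine ⟨hcard, fun g hg => ?_⟩
  obtain ⟨a, ha⟩ := (hinj.bijective_of_nat_card_le (by rw [hcard]; simp)).2 ⟨g, hg⟩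
  refine ⟨_, List.getElem_mem (by rw [len_facA]; exact a.1.2), _,
    List.getElem_mem (by rw [len_facC]; exact a.2.2), ?_⟩
  rw [← hf a]
  exact congrArg (fun g : P0 => mat g.1) ha.symm

end Cfsg.Agent.O73
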